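import Groth.Agent.Lib.LogCartierH7.Core
import Groth.Prelude.Def_DeRham
import Groth.Prelude.Def_LogDiff
import Mathlib.RingTheory.Kaehler.Polynomial

/-!
# Closed log forms of a polynomial ring in characteristic `p`
-/

set_option autoImplicit false
universe u

open MvPolynomial exteriorPower

namespace Groth.Agent.LogCartierH7

variable {R : Type u} [CommRing R] {n r : ℕ}

theorem expand_eq_sum (p : ℕ) (g : MvPolynomial (Fin n) R) :
    expand p g = ∑ m ∈ g.support, monomial (p • m) (coeff m g) := by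
  conv_lhs => rw [g.as_sum, map_sum]
  simp only [expand_monomial]

/-- The exponent of the Cartier generators. -/
noncomputable def κ (r p : ℕ) (s : Finset (Fin n)) : Fin n →₀ ℕ :=
  Finsupp.equivFunOnFinite.symm fun ν => if r ≤ (ν : ℕ) ∧ ν ∈ s then p - 1 else 0

theorem κ_apply (p : ℕ) (s : Finset (Fin n)) (ν : Fin n) :
    κ r p s ν = if r ≤ (ν : ℕ) ∧ ν ∈ s then p - 1 else 0 := rfl

theorem wt_of_mem (p : ℕ) (hp : 0 < p) {s : Finset (Fin n)} {g : MvPolynomial (Fin n) R} {m : Fin n →₀ ℕ}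
    (h : coeff m (expand p g * monomial (κ r p s) 1) ≠ 0) (ν : Fin n) : p ∣ wt r ν s m := by
  classical
  rw [expand_eq_sum, Finset.sum_mul, coeff_sum] at h
  obtain ⟨t, -, ht⟩ := Finset.exists_ne_zero_of_sum_ne_zero h
  rw [monomial_mul, coeff_monomial] at ht
  split_ifs at ht with e
  · subst e
    rw [wt, Finsupp.add_apply, Finsupp.smul_apply, smul_eq_mul, κ_apply]
    split_ifs
    · exact ⟨t ν + 1, by rw [mul_add, mul_one]; omega⟩
    · exact ⟨t ν, by simp⟩
  · exact absurd rfl ht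

theorem exists_expand (p : ℕ) (hp : 0 < p) (s : Finset (Fin n)) (f : MvPolynomial (Fin n) R)
    (h : ∀ m, coeff m f ≠ 0 → ∀ ν, p ∣ wt r ν s m) : ∃ g, expand p g * monomial (κ r p s) 1 = f := by
  classical
  refine ⟨∑ m ∈ f.support, monomial (Finsupp.equivFunOnFinite.symm fun ν => (m ν - κ r p s ν) / p) (coeff m f), ?_⟩
  rw [map_sum, Finset.sum_mul]
  conv_rhs => rw [f.as_sum]
  refine Finset.sum_congr rfl fun m hm => ?_
  rw [expand_monomial, monomial_mul, mul_one]
  congr 2
  ext ν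
  obtain ⟨k, hk⟩ := h m (mem_support_iff.1 hm) ν
  rw [Finsupp.add_apply, Finsupp.smul_apply, smul_eq_mul, κ_apply]
  show p * ((m ν - κ r p s ν) / p) + _ = m ν
  rw [κ_apply]
  rw [wt] at hk
  split_ifs with hc
  · rw [if_pos hc] at hk
    obtain ⟨j, rfl⟩ : ∃ j, k = j + 1 := ⟨k - 1, by rcases k with _ | k; · simp at hk
                                                   · rfl⟩
    rw [mul_add, mul_one] at hk
    rw [show m ν - (p - 1) = p * j by omega, Nat.mul_div_cancel_left _ hp]
    omega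
  · rw [if_neg hc, Nat.add_zero] at hk
    rw [Nat.sub_zero, hk, Nat.mul_div_cancel_left _ hp, Nat.add_zero]

variable (hr : r ≤ n) {L : Type u} [AddCommGroup L] [Module (MvPolynomial (Fin n) R) L]
  (ι : (Ω[MvPolynomial (Fin n) R⁄R]) →ₗ[MvPolynomial (Fin n) R] L) (dl : Fin r → L)

local notation "P" => MvPolynomial (Fin n) R
local notation "DD" => KaehlerDifferential.D R (MvPolynomial (Fin n) R)

/-- The log basis as a family. -/
noncomputable def logFam (ν : Fin n) : L := if h : (ν : ℕ) < r then dl ⟨ν, h⟩ else ι (DD (X ν))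

variable (hL : LogDiff.IsLog (KaehlerDifferential.D R (MvPolynomial (Fin n) R))
  (fun i : Fin r => (MvPolynomial.X (Fin.castLE hr i) : MvPolynomial (Fin n) R)) ι dl)

include hL in
theorem exists_logBasis : ∃ b : Module.Basis (Fin n) P L, ∀ ν, b ν = logFam ι dl ν := by
  classical
  obtain ⟨h1, h2, h3, h4⟩ := hL
  let f : Fin r → P := fun i => X (Fin.castLE hr i)
  let c : Fin n → P := fun ν => if h : (ν : ℕ) < r then ∏ j ∈ Finset.univ.erase ⟨ν, h⟩, f j else ∏ j, f j
  have hc : ∀ ν, (∏ j, f j) • logFam ι dl ν = c ν • ι (DD (X ν)) := fun ν => by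
    unfold logFam
    by_cases h : (ν : ℕ) < r
    · simp only [c, dif_pos h]
      rw [← Finset.mul_prod_erase _ f (Finset.mem_univ (⟨ν, h⟩ : Fin r)), mul_comm, mul_smul]
      exact congrArg _ (h1 ⟨ν, h⟩)
    · simp only [c, dif_neg h]
  have hreg : ∀ ν, IsRegular (c ν) := fun ν => by
    simp only [c]
    split_ifs <;> exact IsRegular.prod fun _ _ => isRegular_X
  have hli : LinearIndependent P (logFam ι dl) := by
    refine Fintype.linearIndependent_iff.2 fun g hg ν => ?_
    have h0 : ι (∑ ν, (g ν * c ν) • DD (X ν)) = 0 := by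
      rw [map_sum, ← smul_zero (∏ j, f j), ← hg, Finset.smul_sum]
      exact Finset.sum_congr rfl fun μ _ => by rw [map_smul, mul_smul, ← hc, smul_comm]
    obtain ⟨k, hk⟩ := (h4 _).1 h0
    rw [Finset.smul_sum] at hk
    have hb := Fintype.linearIndependent_iff.1 (KaehlerDifferential.mvPolynomialBasis R (Fin n)).linearIndependent
      (fun ν => (∏ j, f j) ^ k * (g ν * c ν)) (by
        simp only [KaehlerDifferential.mvPolynomialBasis_apply, mul_smul] at hk ⊢
        exact hk) ν
    have h5 : g ν * c ν = 0 := ((IsRegular.prod fun _ _ => isRegular_X).pow k).left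
      (show (∏ j, f j) ^ k * (g ν * c ν) = (∏ j, f j) ^ k * 0 by rw [hb, mul_zero])
    exact (hreg ν).right (show g ν * c ν = 0 * c ν by rw [h5, zero_mul])
  refine ⟨Module.Basis.mk hli ?_, fun ν => Module.Basis.mk_apply _ _ ν⟩
  rw [← h2, Submodule.span_le]
  rintro x (⟨ω, rfl⟩ | ⟨i, rfl⟩)
  · rw [SetLike.mem_coe, ← (KaehlerDifferential.mvPolynomialBasis R (Fin n)).sum_repr ω, map_sum]
    refine Submodule.sum_mem _ fun ν _ => ?_
    rw [map_smul, KaehlerDifferential.mvPolynomialBasis_apply]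
    refine Submodule.smul_mem _ _ ?_
    by_cases h : (ν : ℕ) < r
    · have e : ι (DD (X ν)) = (X ν : P) • logFam ι dl ν := by
        rw [logFam, dif_pos h]
        exact (h1 ⟨ν, h⟩).symm
      rw [e]
      exact Submodule.smul_mem _ _ (Submodule.subset_span ⟨ν, rfl⟩)
    · exact Submodule.subset_span ⟨ν, dif_neg h⟩
  · exact Submodule.subset_span ⟨Fin.castLE hr i, (dif_pos (show (Fin.castLE hr i : ℕ) < r from i.2)).trans (congrArg dl (Fin.ext rfl))⟩

variable [Module R L] [IsScalarTower R (MvPolynomial (Fin n) R) L]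

theorem sum_δ_smul (b : Module.Basis (Fin n) P L) (hb : ∀ ν, b ν = logFam ι dl ν)
    (h1 : ∀ i, (X (Fin.castLE hr i) : P) • dl i = ι (DD (X (Fin.castLE hr i)))) (f : P) :
    ι (DD f) = ∑ μ, δ r μ f • b μ := by
  classical
  conv_lhs => rw [← (KaehlerDifferential.mvPolynomialBasis R (Fin n)).sum_repr (DD f), map_sum]
  refine Finset.sum_congr rfl fun μ _ => ?_
  rw [map_smul, KaehlerDifferential.mvPolynomialBasis_apply, KaehlerDifferential.mvPolynomialBasis_repr_apply, hb]
  unfold δ logFam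
  by_cases h : (μ : ℕ) < r
  · rw [if_pos h, dif_pos h, Derivation.smul_apply, smul_eq_mul, mul_comm, mul_smul]
    exact congrArg _ (h1 ⟨μ, h⟩).symm
  · rw [if_neg h, dif_neg h]

theorem log_cartier (p : ℕ) (a : ℕ) [Fact p.Prime] [CharP R p]
    (d : ∀ q : ℕ, ↥(⋀[MvPolynomial (Fin n) R]^q L) →ₗ[R] ↥(⋀[MvPolynomial (Fin n) R]^(q + 1) L))
    (hd2 : ∀ q, d (q + 1) ∘ₗ d q = 0)
    (hlog : LogDiff.IsLogRule (KaehlerDifferential.D R (MvPolynomial (Fin n) R)) ι dl d)
    (hL' : LogDiff.IsLog (KaehlerDifferential.D R (MvPolynomial (Fin n) R))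
      (fun i : Fin r => (MvPolynomial.X (Fin.castLE hr i) : MvPolynomial (Fin n) R)) ι dl)
    (w : Fin n → L) (hw : ∀ i : Fin r, w (Fin.castLE hr i) = dl i)
    (hw' : ∀ ν : Fin n, r ≤ (ν : ℕ) → w ν = ι ((X ν ^ (p - 1) : P) • DD (X ν)))
    (e : Finset (Fin n) → ↥(⋀[P]^a L))
    (he : ∀ (s : Finset (Fin n)) (hs : s.card = a),
      e s = exteriorPower.ιMulti P a (fun j => w (s.orderEmbOfFin hs j))) :
    (∀ ω, ω ∈ DeRham.cocycles d a ↔
      ∃ (g : Finset (Fin n) → P) (η : ↥(⋀[P]^a L)),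
        η ∈ DeRham.coboundaries d a ∧
          ω = η + ∑ s ∈ Finset.powersetCard a Finset.univ, expand p (g s) • e s) ∧
    (∀ g : Finset (Fin n) → P,
      (∑ s ∈ Finset.powersetCard a Finset.univ, expand p (g s) • e s) ∈ DeRham.coboundaries d a →
        ∀ s ∈ Finset.powersetCard a (Finset.univ : Finset (Fin n)), g s = 0) := by
  classical
  obtain ⟨b, hb⟩ := exists_logBasis hr ι dl hL'
  have hp : p.Prime := Fact.out
  have hD : ∀ (q : ℕ) (x : ↥(⋀[P]^q L)), (d q x : ExteriorAlgebra P L) = D r b x := by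
    intro q x
    rw [← (b.exteriorPower q).sum_repr x, map_sum, Submodule.coe_sum, Submodule.coe_sum, map_sum]
    refine Finset.sum_congr rfl fun t _ => ?_
    generalize (b.exteriorPower q).repr x t = f
    let v : Fin q → L := b ∘ Set.powersetCard.ofFinEmbEquiv.symm t
    have hv : b.exteriorPower q t = ιMulti P q v := by rw [exteriorPower.basis_apply]; rfl
    have hkind : ∀ k, (∃ c, v k = ι (DD c)) ∨ ∃ i, v k = dl i := fun k => by
      simp only [v, Function.comp_apply, hb, logFam]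
      split_ifs with h
      · exact Or.inr ⟨_, rfl⟩
      · exact Or.inl ⟨_, rfl⟩
    rw [hv, hlog q f v hkind, ιMulti_apply_coe, ExteriorAlgebra.ιMulti_succ_apply, Submodule.coe_smul,
      ← hv, ← ExteriorAlgebra.basis_eq_coe_basis, D_apply, sum_δ_smul hr ι dl b hb hL'.1 f]
    simp only [Fin.cons_zero, map_sum, Finset.sum_mul]
    refine Finset.sum_congr rfl fun μ _ => ?_
    rw [map_smul, smul_mul_assoc, dC_smul_bb, mul_smul_comm, ExteriorAlgebra.basis_eq_coe_basis, hv, ιMulti_apply_coe]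
    rfl
  have hDD : SqZero r b := fun q y hy => by
    rw [← hD q ⟨y, hy⟩, ← hD (q + 1) (d q ⟨y, hy⟩)]
    have := LinearMap.congr_fun (hd2 q) ⟨y, hy⟩
    rw [LinearMap.comp_apply, LinearMap.zero_apply] at this
    rw [this]; rfl
  let u : Fin n → P := fun ν => if r ≤ (ν : ℕ) then X ν ^ (p - 1) else 1
  have hwb : ∀ ν, w ν = u ν • b ν := fun ν => by
    rw [hb]
    simp only [u, logFam]
    by_cases h : (ν : ℕ) < r
    · rw [if_neg (not_le.2 h), dif_pos h, one_smul, ← hw ⟨ν, h⟩]
      rfl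
    · rw [if_pos (not_lt.1 h), dif_neg h, hw' ν (not_lt.1 h), map_smul]
  have hu : ∀ s : Finset (Fin n), ∏ ν ∈ s, u ν = monomial (κ r p s) (1 : R) := fun s => by
    rw [monomial_eq, map_one, one_mul, Finsupp.prod_fintype _ _ (fun _ => pow_zero _)]
    refine (Finset.prod_congr rfl fun ν hν => ?_).trans
      (Finset.prod_subset (Finset.subset_univ s) fun ν _ hν => ?_)
    · rw [κ_apply]; simp [u, hν]
    · rw [κ_apply, if_neg (fun h => hν h.2), pow_zero]
  have hecoe : ∀ s : Finset (Fin n), s.card = a →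
      (e s : ExteriorAlgebra P L) = monomial (κ r p s) (1 : R) • b.ExteriorAlgebra s := by
    intro s hs
    rw [he s hs, show (fun j => w (s.orderEmbOfFin hs j)) =
        fun j => u (s.orderEmbOfFin hs j) • b (s.orderEmbOfFin hs j) from funext fun j => hwb _,
      AlternatingMap.map_smul_univ, Submodule.coe_smul, ιMulti_apply_coe]
    congr 1
    · rw [← hu]
      exact (Finset.prod_map Finset.univ (s.orderEmbOfFin hs).toEmbedding u).symm.trans
        (by rw [Finset.map_orderEmbOfFin_univ])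
    · rw [ExteriorAlgebra.basis_apply_ofCard b hs]
      rfl
  have hrepr : ∀ (g : Finset (Fin n) → P) (t : Finset (Fin n)),
      b.ExteriorAlgebra.repr ((∑ s ∈ Finset.powersetCard a Finset.univ, expand p (g s) • e s : ↥(⋀[P]^a L)) :
        ExteriorAlgebra P L) t = if t.card = a then expand p (g t) * monomial (κ r p t) (1 : R) else 0 := by
    intro g t
    rw [Submodule.coe_sum, map_sum, Finsupp.finsetSum_apply,
      Finset.sum_congr rfl fun s hs => by
        rw [Submodule.coe_smul, hecoe s (Finset.mem_powersetCard.1 hs).2, smul_smul, map_smul,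
          Module.Basis.repr_self, Finsupp.smul_single, Finsupp.single_apply, smul_eq_mul, mul_one],
      Finset.sum_ite_eq']
    simp [Finset.mem_powersetCard]
  have hW : ∀ g : Finset (Fin n) → P, Wgt r b p Finset.univ
      ((∑ s ∈ Finset.powersetCard a Finset.univ, expand p (g s) • e s : ↥(⋀[P]^a L)) : ExteriorAlgebra P L) := by
    intro g t m hm ν _
    rw [hrepr] at hm
    split_ifs at hm
    · exact wt_of_mem p hp.pos hm ν
    · exact absurd (coeff_zero m) hm
  have hcob : ∀ ω : ↥(⋀[P]^a L), ω ∈ DeRham.coboundaries d a ↔ Ex r b a (ω : ExteriorAlgebra P L) := by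
    intro ω
    rcases a with _ | q
    · refine ⟨fun h => ⟨0, zero_mem _, fun _ => rfl, ?_⟩, fun ⟨η, _, h0, hη⟩ => ?_⟩
      · rw [map_zero, show ω = 0 from h]; rfl
      · refine Subtype.ext (hη.symm.trans ?_)
        rw [h0 rfl, map_zero]; rfl
    · refine ⟨fun ⟨η, hη⟩ => ⟨η, η.2, fun h => absurd h (Nat.succ_ne_zero q), ?_⟩, fun ⟨η, hm, _, hη⟩ => ⟨⟨η, hm⟩, ?_⟩⟩
      · rw [← hη, hD]
      · exact Subtype.ext ((hD q ⟨η, hm⟩).trans hη)
  refine ⟨fun ω => ⟨fun hω => ?_, ?_⟩, fun g hg s hs => ?_⟩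
  · have hω' : D r b (ω : ExteriorAlgebra P L) = 0 := by
      rw [← hD a ω, show d a ω = 0 from hω]; rfl
    obtain ⟨y, hy, hyW, -, hEx⟩ := exists_reduce r b p hDD ω.2 hω' Finset.univ
    choose g hg using fun t : Finset (Fin n) => exists_expand (r := r) p hp.pos t (b.ExteriorAlgebra.repr y t)
      (fun m hm ν => hyW t m hm ν (Finset.mem_univ _))
    refine ⟨g, ω - ∑ s ∈ Finset.powersetCard a Finset.univ, expand p (g s) • e s, (hcob _).2 ?_, by abel⟩
    convert hEx using 1
    rw [Submodule.coe_sub]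
    congr 1
    refine b.ExteriorAlgebra.ext_elem fun t => ?_
    rw [hrepr]
    split_ifs with ht
    · exact hg t
    · exact (not_not.1 fun h => ht ((mem_deg_iff b a y).1 hy t h)).symm
  · rintro ⟨g, η, hη, rfl⟩
    show d a (η + _) = 0
    refine Subtype.ext ?_
    rw [hD, Submodule.coe_add, map_add, D_eq_zero_of_Wgt r b p (hW g), add_zero]
    obtain ⟨ζ, hζ, -, hDζ⟩ := (hcob η).1 hη
    rw [← hDζ, hDD _ _ hζ]; rfl
  · obtain ⟨ζ, hζ, -, hDζ⟩ := (hcob _).1 hg
    have h0 := eq_zero_of_exact r b p hDD hζ (hDζ.symm ▸ hW g)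
    rw [hDζ] at h0
    have h1 := hrepr g s
    rw [h0, if_pos (Finset.mem_powersetCard.1 hs).2, map_zero, Finsupp.zero_apply] at h1
    refine (expand_eq_zero hp.pos).1 (MvPolynomial.ext _ _ fun m => ?_)
    have h2 := congrArg (coeff (m + κ r p s)) h1.symm
    rwa [coeff_mul_monomial, mul_one] at h2

end Groth.Agent.LogCartierH7
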