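import Groth.Agent.Lib.DeRham.Basic
import Mathlib.LinearAlgebra.ExteriorAlgebra.Basis
import Mathlib.Algebra.MvPolynomial.PDeriv
import Mathlib.Algebra.MvPolynomial.Expand
import Mathlib.FieldTheory.Finite.Basic

/-!
# Weight decomposition of the log de Rham complex of a polynomial ring in characteristic `p`
-/

set_option autoImplicit false
universe u

open MvPolynomial

namespace Groth.Agent.LogCartierH7

variable {R : Type u} [CommRing R] {n : ℕ} (r : ℕ) {L : Type u} [AddCommGroup L]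
  [Module (MvPolynomial (Fin n) R) L] (b : Module.Basis (Fin n) (MvPolynomial (Fin n) R) L)

local notation "P" => MvPolynomial (Fin n) R
local notation "Λ" => ExteriorAlgebra (MvPolynomial (Fin n) R) L
local notation "ιb" i => ExteriorAlgebra.ι (MvPolynomial (Fin n) R) (b i)
local notation "bb" => Module.Basis.ExteriorAlgebra b

/-- The derivative dual to the log basis. -/
noncomputable def δ (μ : Fin n) : Derivation R P P :=
  if (μ : ℕ) < r then (X μ : P) • pderiv μ else pderiv μ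

/-- The scaling factor of the Euler contraction. -/
noncomputable def sc (μ : Fin n) : P := if (μ : ℕ) < r then 1 else X μ

theorem sc_mul_δ (μ : Fin n) (f : P) : sc r μ * δ r μ f = X μ * pderiv μ f := by
  unfold sc δ
  split_ifs
  · rw [one_mul]; rfl
  · rfl

theorem coeff_X_mul_pderiv (μ : Fin n) (f : P) (m : Fin n →₀ ℕ) :
    coeff m (X μ * pderiv μ f) = (m μ : R) * coeff m f := by
  classical
  induction f using MvPolynomial.induction_on' with
  | monomial t a =>
    rw [pderiv_monomial]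
    rcases Nat.eq_zero_or_pos (t μ) with h | h
    · rw [h, Nat.cast_zero, mul_zero, monomial_zero, mul_zero, coeff_zero, coeff_monomial]
      split_ifs with e
      · subst e; rw [h, Nat.cast_zero, zero_mul]
      · rw [mul_zero]
    · rw [show (X μ : P) = monomial (Finsupp.single μ 1) 1 from rfl, monomial_mul, one_mul,
        add_tsub_cancel_of_le (Finsupp.single_le_iff.2 h), coeff_monomial, coeff_monomial]
      split_ifs with e
      · subst e; rw [mul_comm]
      · rw [mul_zero]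
  | add f g hf hg => rw [map_add, mul_add, coeff_add, coeff_add, hf, hg, mul_add]

/-- The product of basis vectors along a list. -/
noncomputable def Pr (l : List (Fin n)) : Λ := (l.map fun i => ιb i).prod

@[simp] theorem Pr_nil : Pr b [] = 1 := by simp [Pr]
@[simp] theorem Pr_cons (i : Fin n) (l : List (Fin n)) : Pr b (i :: l) = (ιb i) * Pr b l := by simp [Pr]

theorem bb_eq (s : Finset (Fin n)) : bb s = Pr b (List.ofFn (s.orderEmbOfFin rfl)) := by
  rw [ExteriorAlgebra.basis_apply_ofCard b (rfl : s.card = s.card), Pr, List.map_ofFn]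
  rfl

theorem bb_singleton (i : Fin n) : bb {i} = ιb i := by
  rw [ExteriorAlgebra.basis_apply_ofCard b (Finset.card_singleton i)]
  show ExteriorAlgebra.ιMulti _ 1 _ = _
  rw [ExteriorAlgebra.ιMulti_succ_apply, ExteriorAlgebra.ιMulti_zero_apply, mul_one]
  congr 1
  simp [Set.powersetCard.ofFinEmbEquiv_symm_apply]

theorem bb_mem (s : Finset (Fin n)) : bb s ∈ (⋀[P]^s.card L) := by
  rw [ExteriorAlgebra.basis_apply_ofCard b (rfl : s.card = s.card), ← exteriorPower.ιMulti_family_apply_coe]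
  exact SetLike.coe_mem _

theorem bb_empty : bb (∅ : Finset (Fin n)) = 1 := by
  rw [bb_eq]; simp

theorem ι_mul_bb_of_mem {i : Fin n} {s : Finset (Fin n)} (h : i ∈ s) : (ιb i) * bb s = 0 := by
  rw [← bb_singleton]
  exact ExteriorAlgebra.basis_mul_of_not_disjoint b (Set.powersetCard.ofCard (Finset.card_singleton i))
    (Set.powersetCard.ofCard (rfl : s.card = s.card)) (by simpa using h)

/-- Integral combinations of the basis. -/
noncomputable def K : AddSubgroup Λ := AddSubgroup.closure (Set.range bb)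

theorem ι_mul_mem_K (i : Fin n) {y : Λ} (hy : y ∈ K b) : (ιb i) * y ∈ K b := by
  induction hy using AddSubgroup.closure_induction with
  | mem z hz =>
    obtain ⟨s, rfl⟩ := hz
    by_cases h : i ∈ s
    · rw [ι_mul_bb_of_mem b h]; exact zero_mem _
    · have hd : Disjoint (Set.powersetCard.ofCard (Finset.card_singleton i)).val
          (Set.powersetCard.ofCard (rfl : s.card = s.card)).val := by simpa using h
      have e := ExteriorAlgebra.basis_mul_of_disjoint b _ _ hd
      simp only [Set.powersetCard.val_ofCard, bb_singleton] at e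
      rw [e, Units.smul_def]
      exact zsmul_mem (AddSubgroup.subset_closure (Set.mem_range_self _)) _
  | zero => rw [mul_zero]; exact zero_mem _
  | add x y _ _ hx hy => rw [mul_add]; exact add_mem hx hy
  | neg x _ hx => rw [mul_neg]; exact neg_mem hx

theorem Pr_mem_K : ∀ l : List (Fin n), Pr b l ∈ K b
  | [] => by rw [Pr_nil, ← bb_empty b]; exact AddSubgroup.subset_closure (Set.mem_range_self _)
  | i :: l => by rw [Pr_cons]; exact ι_mul_mem_K b i (Pr_mem_K l)

/-- Coefficientwise derivative. -/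
noncomputable def dC (μ : Fin n) : Λ →+ Λ where
  toFun y := ∑ s, δ r μ ((bb).repr y s) • bb s
  map_zero' := by simp
  map_add' x y := by simp [add_smul, Finset.sum_add_distrib]

/-- The contraction by a coordinate. -/
noncomputable def ctr (ν : Fin n) : Λ →ₗ[P] Λ :=
  CliffordAlgebra.contractLeft (Q := (0 : QuadraticForm P L)) (b.coord ν)

/-- The differential. -/
noncomputable def D : Λ →+ Λ := ∑ μ, (AddMonoidHom.mulLeft (ιb μ)).comp (dC r b μ)

/-- The contraction by an Euler field. -/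
noncomputable def hom (ν : Fin n) : Λ →+ Λ :=
  (DistribSMul.toAddMonoidHom Λ (sc r ν : P)).comp (ctr b ν).toAddMonoidHom

/-- The Lie derivative. -/
noncomputable def Θ (ν : Fin n) : Λ →+ Λ := (D r b).comp (hom r b ν) + (hom r b ν).comp (D r b)

theorem D_apply (y : Λ) : D r b y = ∑ μ, (ιb μ) * dC r b μ y := by
  simp [D, AddMonoidHom.finset_sum_apply]

theorem hom_apply (ν : Fin n) (y : Λ) : hom r b ν y = (sc r ν : P) • ctr b ν y := rfl

theorem ext_basis {F G : Λ →+ Λ} (h : ∀ (f : P) s, F (f • bb s) = G (f • bb s)) (y : Λ) : F y = G y := by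
  rw [← (bb).sum_repr y, map_sum, map_sum]
  exact Finset.sum_congr rfl fun s _ => h _ s

theorem dC_smul_bb (μ : Fin n) (f : P) (s : Finset (Fin n)) : dC r b μ (f • bb s) = δ r μ f • bb s := by
  show ∑ t, δ r μ ((bb).repr (f • bb s) t) • bb t = _
  rw [Finset.sum_eq_single s]
  · simp
  · intro t _ ht; simp [ht]
  · simp

theorem dC_smul (μ : Fin n) (f : P) (y : Λ) : dC r b μ (f • y) = δ r μ f • y + f • dC r b μ y := by
  refine ext_basis b (F := (dC r b μ).comp (DistribSMul.toAddMonoidHom Λ f))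
    (G := DistribSMul.toAddMonoidHom Λ (δ r μ f) + (DistribSMul.toAddMonoidHom Λ f).comp (dC r b μ)) (fun g s => ?_) y
  show dC r b μ (f • g • bb s) = δ r μ f • g • bb s + f • dC r b μ (g • bb s)
  rw [smul_smul, dC_smul_bb, dC_smul_bb, smul_smul, smul_smul, ← add_smul, (δ r μ).leibniz,
    smul_eq_mul, smul_eq_mul, add_comm, mul_comm g]

theorem dC_K (μ : Fin n) {y : Λ} (hy : y ∈ K b) : dC r b μ y = 0 := by
  induction hy using AddSubgroup.closure_induction with
  | mem z hz =>
    obtain ⟨s, rfl⟩ := hz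
    rw [← one_smul P (bb s), dC_smul_bb, (δ r μ).map_one_eq_zero, zero_smul]
  | zero => exact map_zero _
  | add x y _ _ hx hy => rw [map_add, hx, hy, add_zero]
  | neg x _ hx => rw [map_neg, hx, neg_zero]

theorem dC_ι_mul (μ i : Fin n) (y : Λ) : dC r b μ ((ιb i) * y) = (ιb i) * dC r b μ y := by
  refine ext_basis b (F := (dC r b μ).comp (AddMonoidHom.mulLeft (ιb i)))
    (G := (AddMonoidHom.mulLeft (ιb i)).comp (dC r b μ)) (fun g s => ?_) y
  show dC r b μ ((ιb i) * g • bb s) = (ιb i) * dC r b μ (g • bb s)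
  rw [mul_smul_comm, dC_smul, dC_K r b μ (ι_mul_mem_K b i (AddSubgroup.subset_closure (Set.mem_range_self _))),
    smul_zero, add_zero, dC_smul_bb, mul_smul_comm]

theorem ctr_ι_mul (ν : Fin n) (i : Fin n) (y : Λ) :
    ctr b ν ((ιb i) * y) = (if i = ν then y else 0) - (ιb i) * ctr b ν y := by
  refine (CliffordAlgebra.contractLeft_ι_mul (Q := (0 : QuadraticForm P L)) (d := b.coord ν) (b i) y).trans ?_
  rw [Module.Basis.coord_apply, Module.Basis.repr_self, Finsupp.single_apply]
  split_ifs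
  · rw [one_smul]; rfl
  · rw [zero_smul]; rfl

theorem ctr_one (ν : Fin n) : ctr b ν (1 : Λ) = 0 :=
  CliffordAlgebra.contractLeft_one (Q := (0 : QuadraticForm P L)) (d := b.coord ν)

theorem ctr_Pr (ν : Fin n) : ∀ l : List (Fin n),
    ctr b ν (Pr b l) ∈ K b ∧ (ιb ν) * ctr b ν (Pr b l) = (if ν ∈ l then Pr b l else 0) ∧
      ctr b ν (Pr b l) ∈ (⋀[P]^(l.length - 1) L)
  | [] => by simp [ctr_one]
  | i :: l => by
    obtain ⟨h1, h2, h3⟩ := ctr_Pr ν l
    rw [Pr_cons, ctr_ι_mul]
    refine ⟨sub_mem (by split_ifs; exacts [Pr_mem_K b l, zero_mem _]) (ι_mul_mem_K b i h1), ?_, ?_⟩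
    · have hsw : (ιb ν) * ((ιb i) * ctr b ν (Pr b l)) = -((ιb i) * ((ιb ν) * ctr b ν (Pr b l))) := by
        rw [← mul_assoc, ← mul_assoc, ← neg_mul, eq_neg_of_add_eq_zero_left (ExteriorAlgebra.ι_add_mul_swap (b ν) (b i))]
      rw [mul_sub, hsw, h2, sub_neg_eq_add]
      by_cases hi : i = ν
      · subst hi
        simp only [if_true, List.mem_cons, true_or]
        split_ifs with hl
        · rw [if_pos hl] at h2
          rw [← h2, ← mul_assoc, ExteriorAlgebra.ι_sq_zero]; simp
        · simp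
      · simp only [List.mem_cons, Ne.symm hi, false_or, if_neg hi, mul_zero, zero_add]
        split_ifs <;> simp
    · have hP : ∀ l : List (Fin n), Pr b l ∈ (⋀[P]^l.length L) := by
        intro l
        induction l with
        | nil =>
          rw [Pr_nil, ← map_one (algebraMap P Λ)]
          exact DeRham.algebraMap_mem_zero 1
        | cons a l ih =>
          rw [Pr_cons, List.length_cons, add_comm]
          exact DeRham.mul_mem (DeRham.ι_mem_one _) ih
      refine sub_mem ?_ ?_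
      · split_ifs
        · simpa using hP l
        · exact zero_mem _
      · rcases l with _ | ⟨a, l⟩
        · simp [ctr_one]
        · have := DeRham.mul_mem (DeRham.ι_mem_one (A := P) (b i)) h3
          simpa [add_comm] using this

theorem mem_list_iff (ν : Fin n) (s : Finset (Fin n)) : ν ∈ List.ofFn (s.orderEmbOfFin rfl) ↔ ν ∈ s := by
  rw [List.mem_ofFn', Finset.range_orderEmbOfFin, Finset.mem_coe]

theorem dC_ctr (μ ν : Fin n) (y : Λ) : dC r b μ (ctr b ν y) = ctr b ν (dC r b μ y) := by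
  refine ext_basis b (F := (dC r b μ).comp (ctr b ν).toAddMonoidHom)
    (G := (ctr b ν).toAddMonoidHom.comp (dC r b μ)) (fun g s => ?_) y
  show dC r b μ (ctr b ν (g • bb s)) = ctr b ν (dC r b μ (g • bb s))
  rw [map_smul, dC_smul, dC_smul_bb, map_smul, dC_K r b μ (by rw [bb_eq]; exact (ctr_Pr b ν _).1), smul_zero,
    add_zero]

theorem δ_sc (μ ν : Fin n) : δ r μ (sc r ν : P) = if μ = ν ∧ r ≤ (ν : ℕ) then 1 else 0 := by
  classical
  unfold sc
  by_cases hν : (ν : ℕ) < r
  · rw [if_pos hν, (δ r μ).map_one_eq_zero, if_neg (fun h => absurd h.2 (not_le.2 hν))]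
  · rw [if_neg hν]
    unfold δ
    by_cases h : μ = ν
    · subst h
      rw [if_neg hν, if_pos ⟨rfl, not_lt.1 hν⟩, pderiv_X_self]
    · rw [if_neg (show ¬ (μ = ν ∧ r ≤ (ν : ℕ)) from fun e => h e.1)]
      split_ifs
      · rw [Derivation.smul_apply, pderiv_X_of_ne (Ne.symm h), smul_zero]
      · exact pderiv_X_of_ne (Ne.symm h)

theorem Θ_apply (ν : Fin n) (y : Λ) :
    Θ r b ν y = (sc r ν : P) • dC r b ν y + (if r ≤ (ν : ℕ) then (ιb ν) * ctr b ν y else 0) := by
  show D r b (hom r b ν y) + hom r b ν (D r b y) = _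
  simp only [hom_apply, D_apply, map_sum, dC_smul, ctr_ι_mul, dC_ctr, δ_sc, mul_add, mul_smul_comm, Finset.smul_sum,
    smul_sub, Finset.sum_add_distrib, Finset.sum_sub_distrib, smul_ite, smul_zero]
  simp only [ite_smul, one_smul, zero_smul, mul_ite, mul_zero, ite_and, Finset.sum_ite_eq', Finset.mem_univ,
    if_true]
  abel

/-- The weight. -/
def wt (ν : Fin n) (s : Finset (Fin n)) (m : Fin n →₀ ℕ) : ℕ := m ν + if r ≤ (ν : ℕ) ∧ ν ∈ s then 1 else 0

theorem coeff_Θ (ν : Fin n) (y : Λ) (s : Finset (Fin n)) (m : Fin n →₀ ℕ) :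
    coeff m ((bb).repr (Θ r b ν y) s) = (wt r ν s m : R) * coeff m ((bb).repr y s) := by
  classical
  let T : Finset (Fin n) → P → P := fun t f => X ν * pderiv ν f + if r ≤ (ν : ℕ) ∧ ν ∈ t then f else 0
  have hterm : ∀ (f : P) t, Θ r b ν (f • bb t) = T t f • bb t := by
    intro f t
    rw [Θ_apply, dC_smul_bb, map_smul, mul_smul_comm, smul_smul, sc_mul_δ]
    simp only [T]
    have h := (ctr_Pr b ν (List.ofFn (t.orderEmbOfFin rfl))).2.1
    rw [← bb_eq] at h
    simp only [mem_list_iff] at h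
    rw [h]
    by_cases h1 : r ≤ (ν : ℕ) <;> by_cases h2 : ν ∈ t <;> simp [h1, h2, add_smul]
  have hy : Θ r b ν y = ∑ t, T t ((bb).repr y t) • bb t := by
    conv_lhs => rw [← (bb).sum_repr y, map_sum]
    exact Finset.sum_congr rfl fun t _ => hterm _ t
  rw [hy, Module.Basis.repr_sum_self, coeff_add, coeff_X_mul_pderiv]
  unfold wt
  split_ifs
  · rw [Nat.cast_add, Nat.cast_one, add_mul, one_mul]
  · rw [Nat.add_zero, coeff_zero, add_zero]

theorem coeff_Θ_iter (ν : Fin n) (k : ℕ) (y : Λ) (s : Finset (Fin n)) (m : Fin n →₀ ℕ) :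
    coeff m ((bb).repr ((Θ r b ν)^[k] y) s) = (wt r ν s m : R) ^ k * coeff m ((bb).repr y s) := by
  induction k with
  | zero => simp
  | succ k ih => rw [Function.iterate_succ_apply', coeff_Θ, ih, pow_succ', mul_assoc]

theorem mem_deg_iff (q : ℕ) (y : Λ) :
    y ∈ (⋀[P]^q L) ↔ ∀ s, (bb).repr y s ≠ 0 → s.card = q := by
  classical
  refine ⟨fun hy s hs => ?_, fun h => ?_⟩
  · by_contra hne
    refine hs ?_
    have e := congrArg (fun z : ↥(⋀[P]^q L) => (z : Λ)) ((b.exteriorPower q).sum_repr ⟨y, hy⟩)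
    simp only [Submodule.coe_sum, Submodule.coe_smul, ← ExteriorAlgebra.basis_eq_coe_basis] at e
    rw [← e, map_sum, Finsupp.finset_sum_apply]
    refine Finset.sum_eq_zero fun t _ => ?_
    rw [map_smul, Module.Basis.repr_self, Finsupp.smul_single, Finsupp.single_eq_of_ne]
    intro e'
    exact hne (e'.symm ▸ t.2)
  · rw [← (bb).sum_repr y]
    refine Submodule.sum_mem _ fun s _ => ?_
    by_cases hs : (bb).repr y s = 0
    · rw [hs, zero_smul]; exact zero_mem _
    · exact Submodule.smul_mem _ _ (h s hs ▸ bb_mem b s)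

theorem dC_mem {q : ℕ} (μ : Fin n) {y : Λ} (hy : y ∈ (⋀[P]^q L)) : dC r b μ y ∈ (⋀[P]^q L) := by
  show (∑ s, δ r μ ((bb).repr y s) • bb s) ∈ (⋀[P]^q L)
  refine Submodule.sum_mem _ fun s _ => ?_
  by_cases hs : (bb).repr y s = 0
  · rw [hs, map_zero, zero_smul]; exact zero_mem _
  · exact Submodule.smul_mem _ _ ((mem_deg_iff b q y).1 hy s hs ▸ bb_mem b s)

theorem D_mem {q : ℕ} {y : Λ} (hy : y ∈ (⋀[P]^q L)) : D r b y ∈ (⋀[P]^(q + 1) L) := by
  rw [D_apply, add_comm q 1]
  exact Submodule.sum_mem _ fun μ _ => DeRham.mul_mem (DeRham.ι_mem_one (A := P) (b μ)) (dC_mem r b μ hy)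

theorem hom_mem {q : ℕ} (ν : Fin n) {y : Λ} (hy : y ∈ (⋀[P]^q L)) :
    hom r b ν y ∈ (⋀[P]^(q - 1) L) ∧ (q = 0 → hom r b ν y = 0) := by
  have key : ∀ s, (bb).repr y s ≠ 0 → ctr b ν (bb s) ∈ (⋀[P]^(q - 1) L) ∧ (q = 0 → ctr b ν (bb s) = 0) := by
    intro s hs
    obtain rfl := (mem_deg_iff b q y).1 hy s hs
    refine ⟨?_, fun h => ?_⟩
    · have := (ctr_Pr b ν (List.ofFn (s.orderEmbOfFin rfl))).2.2
      rwa [← bb_eq, List.length_ofFn] at this
    · rw [Finset.card_eq_zero.1 h, bb_empty, ctr_one]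
  rw [hom_apply, ← (bb).sum_repr y, map_sum]
  refine ⟨Submodule.smul_mem _ _ (Submodule.sum_mem _ fun s _ => ?_), fun h => ?_⟩
  · rw [map_smul]
    by_cases hs : (bb).repr y s = 0
    · rw [hs, zero_smul]; exact zero_mem _
    · exact Submodule.smul_mem _ _ (key s hs).1
  · rw [Finset.sum_eq_zero fun s _ => ?_, smul_zero]
    rw [map_smul]
    by_cases hs : (bb).repr y s = 0
    · rw [hs, zero_smul]
    · rw [(key s hs).2 h, smul_zero]

theorem Θ_mem {q : ℕ} (ν : Fin n) {y : Λ} (hy : y ∈ (⋀[P]^q L)) : Θ r b ν y ∈ (⋀[P]^q L) := by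
  rw [mem_deg_iff]
  intro s hs
  refine (mem_deg_iff b q y).1 hy s fun h => hs (MvPolynomial.ext _ _ fun m => ?_)
  rw [coeff_Θ, h, coeff_zero, mul_zero]

variable (p : ℕ)

/-- Weights divisible by `p` along `S`. -/
def Wgt (S : Finset (Fin n)) (y : Λ) : Prop :=
  ∀ s m, coeff m ((bb).repr y s) ≠ 0 → ∀ ν ∈ S, p ∣ wt r ν s m

theorem Wgt.empty (y : Λ) : Wgt r b p ∅ y := fun _ _ _ ν hν => absurd hν (Finset.notMem_empty ν)

variable [Fact p.Prime] [CharP R p]

omit [Fact p.Prime] in
theorem wt_cast_zero {M : ℕ} (h : p ∣ M) : (M : R) = 0 := (CharP.cast_eq_zero_iff R p M).2 h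

theorem pow_eq_one {M : ℕ} (h : ¬ p ∣ M) : (M : R) ^ (p - 1) = 1 := by
  have h1 : (M : ZMod p) ^ (p - 1) = 1 :=
    ZMod.pow_card_sub_one_eq_one fun e => h ((ZMod.natCast_eq_zero_iff _ _).1 e)
  have := congrArg (ZMod.castHom (dvd_refl p) R) h1
  simpa using this

theorem Wgt.step {S : Finset (Fin n)} {y : Λ} (hy : Wgt r b p S y) (ν : Fin n) :
    Wgt r b p (insert ν S) (y - (Θ r b ν)^[p - 1] y) := by
  intro s m h μ hμ
  rw [map_sub, Finsupp.sub_apply, coeff_sub, coeff_Θ_iter] at h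
  rcases Finset.mem_insert.1 hμ with rfl | hμ
  · by_contra hd
    exact h (by rw [pow_eq_one p hd, one_mul, sub_self])
  · exact hy s m (fun e => h (by rw [e, mul_zero, sub_zero])) μ hμ

theorem D_eq_zero_of_Wgt {y : Λ} (hy : Wgt r b p Finset.univ y) : D r b y = 0 := by
  rw [D_apply]
  refine Finset.sum_eq_zero fun μ _ => ?_
  show (ιb μ) * (∑ s, δ r μ ((bb).repr y s) • bb s) = 0
  rw [Finset.mul_sum]
  refine Finset.sum_eq_zero fun s _ => ?_
  rw [mul_smul_comm]
  by_cases hμ : μ ∈ s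
  · rw [ι_mul_bb_of_mem b hμ, smul_zero]
  · have h0 : X μ * pderiv μ ((bb).repr y s) = 0 := MvPolynomial.ext _ _ fun m => by
      rw [coeff_X_mul_pderiv, coeff_zero]
      by_cases hc : coeff m ((bb).repr y s) = 0
      · rw [hc, mul_zero]
      · have := hy s m hc μ (Finset.mem_univ _)
        rw [wt, if_neg (fun h => hμ h.2), Nat.add_zero] at this
        rw [wt_cast_zero p this, zero_mul]
    have h1 : pderiv μ ((bb).repr y s) = 0 :=
      (isRegular_X (n := μ)).left (show X μ * pderiv μ ((bb).repr y s) = X μ * 0 by rw [h0, mul_zero])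
    have h2 : δ r μ ((bb).repr y s) = 0 := by
      unfold δ
      split_ifs
      · rw [Derivation.smul_apply, h1, smul_zero]
      · exact h1
    rw [h2, zero_smul]

/-- `D` squares to zero on forms. -/
def SqZero : Prop := ∀ (q : ℕ) (y : Λ), y ∈ (⋀[P]^q L) → D r b (D r b y) = 0

variable (hDD : SqZero r b)

include hDD in
theorem D_Θ {q : ℕ} (ν : Fin n) {y : Λ} (hy : y ∈ (⋀[P]^q L)) : D r b (Θ r b ν y) = Θ r b ν (D r b y) := by
  show D r b (D r b (hom r b ν y) + hom r b ν (D r b y)) = D r b (hom r b ν (D r b y)) + hom r b ν (D r b (D r b y))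
  rw [map_add, hDD _ _ (hom_mem r b ν hy).1, hDD _ _ hy, map_zero, zero_add, add_zero]

include hDD in
theorem iter_props {q : ℕ} (ν : Fin n) {y : Λ} (hy : y ∈ (⋀[P]^q L)) (k : ℕ) :
    (Θ r b ν)^[k] y ∈ (⋀[P]^q L) ∧ D r b ((Θ r b ν)^[k] y) = (Θ r b ν)^[k] (D r b y) := by
  induction k with
  | zero => exact ⟨hy, rfl⟩
  | succ k ih =>
    rw [Function.iterate_succ_apply', Function.iterate_succ_apply']
    exact ⟨Θ_mem r b ν ih.1, (D_Θ r b hDD ν ih.1).trans (by rw [ih.2])⟩

/-- Exactness. -/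
def Ex (q : ℕ) (y : Λ) : Prop :=
  ∃ η, η ∈ (⋀[P]^(q - 1) L) ∧ (q = 0 → η = 0) ∧ D r b η = y

include hDD in
/-- A closed form is cohomologous to one with weights divisible by `p`. -/
theorem exists_reduce {q : ℕ} {y : Λ} (hy : y ∈ (⋀[P]^q L)) (hD : D r b y = 0) (S : Finset (Fin n)) :
    ∃ y' ∈ (⋀[P]^q L), Wgt r b p S y' ∧ D r b y' = 0 ∧ Ex r b q (y - y') := by
  induction S using Finset.induction_on with
  | empty => exact ⟨y, hy, Wgt.empty r b p y, hD, 0, zero_mem _, fun _ => rfl, by rw [map_zero, sub_self]⟩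
  | insert ν S _ ih =>
    obtain ⟨y', hy', hW, hD', η, hη, hη0, hDη⟩ := ih
    obtain ⟨hm, hcomm⟩ := iter_props r b hDD ν hy' (p - 1)
    refine ⟨y' - (Θ r b ν)^[p - 1] y', sub_mem hy' hm, hW.step r b p ν, ?_, ?_⟩
    · rw [map_sub, hD', hcomm, hD', iterate_map_zero, sub_zero]
    · obtain ⟨k, hk⟩ : ∃ k, p - 1 = k + 1 := ⟨p - 2, by have := (Fact.out : p.Prime).two_le; omega⟩
      obtain ⟨hm', hcomm'⟩ := iter_props r b hDD ν hy' k
      refine ⟨η + hom r b ν ((Θ r b ν)^[k] y'), add_mem hη (hom_mem r b ν hm').1, fun h => ?_, ?_⟩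
      · rw [hη0 h, (hom_mem r b ν hm').2 h, add_zero]
      · rw [map_add, hDη, hk, Function.iterate_succ_apply']
        show _ = y - (y' - (D r b (hom r b ν ((Θ r b ν)^[k] y')) + hom r b ν (D r b ((Θ r b ν)^[k] y'))))
        rw [hcomm', hD', iterate_map_zero, map_zero, add_zero]
        abel

include hDD in
/-- Exact forms of weight divisible by `p` vanish. -/
theorem eq_zero_of_exact {q : ℕ} {η : Λ} (hη : η ∈ (⋀[P]^q L)) (hW : Wgt r b p Finset.univ (D r b η)) :
    D r b η = 0 := by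
  suffices h : ∀ S : Finset (Fin n), ∃ η' ∈ (⋀[P]^q L), Wgt r b p S η' ∧ D r b η' = D r b η by
    obtain ⟨η', -, hW', e⟩ := h Finset.univ
    rw [← e, D_eq_zero_of_Wgt r b p hW']
  intro S
  induction S using Finset.induction_on with
  | empty => exact ⟨η, hη, Wgt.empty r b p η, rfl⟩
  | insert ν S _ ih =>
    obtain ⟨η', hη', hW', e⟩ := ih
    obtain ⟨hm, hcomm⟩ := iter_props r b hDD ν hη' (p - 1)
    refine ⟨η' - (Θ r b ν)^[p - 1] η', sub_mem hη' hm, hW'.step r b p ν, ?_⟩
    rw [map_sub, hcomm, e, sub_eq_self]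
    refine (bb).ext_elem fun s => MvPolynomial.ext _ _ fun m => ?_
    rw [coeff_Θ_iter, map_zero, Finsupp.zero_apply, coeff_zero]
    by_cases hc : coeff m ((bb).repr (D r b η) s) = 0
    · rw [hc, mul_zero]
    · have hp := (Fact.out : p.Prime).two_le
      rw [wt_cast_zero p (hW s m hc ν (Finset.mem_univ _)), zero_pow (by omega), zero_mul]

end Groth.Agent.LogCartierH7
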